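import Cfsg.Agent.H862.Spr.Rows
import Cfsg.Agent.H497.Spr.OM
import Cfsg.Agent.H604.Spr.Three
import Cfsg.Agent.H688.Spr.OMinusAll
import Cfsg.Agent.H172.TH.Ten
import Cfsg.Agent.H172.TH.TwelveM
import Cfsg.Agent.H172.TH.Four
import Cfsg.Agent.H637.Spr.TwelveP
import Cfsg.Agent.H637.Spr.Sixteen
import Cfsg.Agent.H989.Cov.Om12
import Cfsg.Agent.H823.O8S.RowFin
import Cfsg.Agent.H884.Oc.PartB
import Cfsg.Agent.H62.Oe.Final
import Cfsg.Agent.H62.Of.Final

/-!
# S3938: the orthogonal rows in even dimension (helper862)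
-/

set_option autoImplicit false

namespace Cfsg.Agent.H862.Spr

open Cfsg Cfsg.Agent.OrdDiv
open Cfsg.Agent.H424.Spr (Spr)

/-- the row `Ω⁻_{2m}`, `m ≥ 4` -/
theorem row_ominus (hP : H659.CovCore.S5948Stmt.{0}) (h51 : H212.Cov.Om10.S5851Stmt) {m : ℕ} {F : Type} [Field F]
    [Fintype F] {a b : F} (hm : 4 ≤ m)
    (hab : ∀ z₁ z₂ : F, z₁ ^ 2 + a * z₁ * z₂ + b * z₂ ^ 2 = 0 → z₁ = 0 ∧ z₂ = 0) :
    Spr (POmega F (quadFormMinus (m - 1) F a b)) := by
  rcases Nat.eq_or_lt_of_le hm with rfl | h5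
  · exact H497.Spr.spr_ominus_four hab
  by_cases h10 : Fintype.card F = 2 ∧ m = 5
  · obtain ⟨h2, rfl⟩ := h10
    exact H172.TH.spr_minus_ten h51 h2 hab
  by_cases h12 : Fintype.card F = 2 ∧ m = 6
  · obtain ⟨h2, rfl⟩ := h12
    exact H172.TH.spr_minus_twelve h2 hab fun Q hs => H989.Cov.resM_of_list h2 hs
  have hsim : IsSimpleGroup (POmega F (quadFormMinus (m - 1) F a b)) := S0297.result (F := F) m hm a b hab
  have hna : ∃ x y : POmega F (quadFormMinus (m - 1) F a b), x * y ≠ y * x := H497.Spr.not_comm_minus (by omega) hab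
  exact H688.Spr.spr_ominus' hP h5 (fun h2 => ⟨fun h => h10 ⟨h2, h⟩, fun h => h12 ⟨h2, h⟩⟩) hab hna

/-- the row `Ω⁺₈` -/
theorem row_o8 (tab : OrderTable.{0}) (hK : ∀ (X : Type) [Group X] [Finite X] [IsSimpleGroup X],
    Cfsg.IsKnownSimple' X) {F : Type} [Field F] [Fintype F] : Spr (POmega F (quadFormPlus 4 F)) := by
  have h1 : 1 < Fintype.card F := Fintype.one_lt_card
  by_cases h2 : Fintype.card F = 2
  · exact H884.Oc.spr_o82 tab hK h2
  by_cases h3 : Fintype.card F = 3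
  · exact H62.Oe.spr_o83 tab hK h3
  by_cases h55 : Fintype.card F = 5
  · exact H62.Of.spr_o85 h55
  · exact H823.O8S.spr_row hK (by rw [Nat.card_eq_fintype_card]; omega) (by rw [Nat.card_eq_fintype_card]; exact h55)

/-- the row `Ω⁺_{2m}`, `m ≥ 4` -/
theorem row_oplus (tab : OrderTable.{0}) (hK : ∀ (X : Type) [Group X] [Finite X] [IsSimpleGroup X],
    Cfsg.IsKnownSimple' X) (hP : H659.CovCore.S5948Stmt.{0}) (h48 : H383.Cov.Ten.S5848Stmt)
    {m : ℕ} {F : Type} [Field F] [Fintype F] (hm : 4 ≤ m) : Spr (POmega F (quadFormPlus m F)) := by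
  rcases Nat.eq_or_lt_of_le hm with rfl | hm5
  · exact row_o8 tab hK
  by_cases h2 : Fintype.card F = 2
  · rcases Nat.lt_or_ge m 9 with h9 | h9
    · interval_cases m
      · exact H172.TH.spr_plus_ten h48 h2
      · exact H637.Spr.spr_plus_twelve (fun Q hs => H989.Cov.resP_of_list h2 hs) h2
      · exact H172.TH.spr_plus_fourteen tab hK h2
      · exact H637.Spr.spr_plus_16 hP h2
    · exact H604.Spr.spr_plus hP hm5 fun _ => h9
  · exact H604.Spr.spr_plus hP hm5 fun h => absurd h h2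

end Cfsg.Agent.H862.Spr
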